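import Mathlib

/-!
# Rosenlicht's unit lemma: the algebraic core

* `exists_algHom_ne_zero`: a Nullstellensatz for `K`-valued points of finitely generated
  `k`-algebras (`K` an algebraically closed extension of `k`).
* `core`: if `u` is a unit of `A ⊗[K] B` (`A`, `B` domains over an algebraically closed field `K`,
  `B` with enough `K`-points), then the specialisations `u(·, b) ∈ A` at `K`-points `b` of `B`
  are proportional: `u(·, b) = c • u(·, b')` with `c ∈ K`.  The proof is valuation-theoretic: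
  for every valuation ring `O ⊇ K` of `Frac A` the valuation of `u(·, b)` is independent of `b`
  (the sets `{b | v(u_b) < γ}` and `{b | v(u_b) ≥ γ}` are both cut out by equations, and `B` is a
  domain), hence `u_b / u_b'` lies in all valuation rings containing `K`, so is integral over `K`.
* `local_const`: a function on the `K`-points of a finitely generated `K`-algebra which is constant
  on the points of each irreducible closed subset is constant near every prime.
-/

set_option backward.isDefEq.respectTransparency.types false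
set_option autoImplicit false
set_option linter.unusedSectionVars false
set_option linter.unusedVariables false
set_option linter.style.haveILetI false
set_option linter.unusedSimpArgs false

open scoped TensorProduct

namespace Groth.Agent.Helper6.RosUnit

section NS

/-- A non-nilpotent element of a finitely generated `k`-algebra is nonzero at some `K`-valued
point, `K` an algebraically closed extension of `k`. -/
theorem exists_algHom_ne_zero (k K : Type*) [Field k] [Field K] [IsAlgClosed K] [Algebra k K]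
    {R : Type*} [CommRing R] [Algebra k R] [Algebra.FiniteType k R] (r : R)
    (hr : ¬ IsNilpotent r) : ∃ a : R →ₐ[k] K, a r ≠ 0 := by
  haveI : IsJacobsonRing R := isJacobsonRing_of_finiteType (A := k) (B := R)
  have hcn : r ∉ (⊥ : Ideal R).jacobson := by
    rw [← Ideal.radical_eq_jacobson]
    intro h
    obtain ⟨n, hn⟩ := h
    exact hr ⟨n, by simpa using hn⟩
  rw [Ideal.jacobson, Ideal.mem_sInf] at hcn
  push Not at hcn
  obtain ⟨m, ⟨-, hm⟩, hrm⟩ := hcn
  haveI : m.IsMaximal := hm
  letI : Field (R ⧸ m) := Ideal.Quotient.field m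
  haveI : Algebra.FiniteType k (R ⧸ m) :=
    Algebra.FiniteType.of_surjective (Ideal.Quotient.mkₐ k m) Ideal.Quotient.mk_surjective
  haveI : Module.Finite k (R ⧸ m) := finite_of_finite_type_of_isJacobsonRing k (R ⧸ m)
  haveI : Algebra.IsAlgebraic k (R ⧸ m) := Algebra.IsAlgebraic.of_finite k (R ⧸ m)
  let l : (R ⧸ m) →ₐ[k] K := IsAlgClosed.lift
  refine ⟨l.comp (Ideal.Quotient.mkₐ k m), fun h0 => hrm ?_⟩
  have h1 : l (Ideal.Quotient.mk m r) = 0 := h0
  have h2 : Ideal.Quotient.mk m r = 0 := by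
    have hinj : Function.Injective l := (l : (R ⧸ m) →+* K).injective
    exact hinj (by rw [h1, map_zero])
  exact Ideal.Quotient.eq_zero_iff_mem.mp h2

end NS

section Core

variable {K : Type*} [Field K] {A B : Type*} [CommRing A] [CommRing B] [Algebra K A] [Algebra K B]

/-- Evaluate the second factor at a `K`-point. -/
noncomputable def evB (b : B →ₐ[K] K) : A ⊗[K] B →ₐ[K] A :=
  Algebra.TensorProduct.lift (AlgHom.id K A) ((Algebra.ofId K A).comp b)
    (fun _ _ => Commute.all _ _)

theorem evB_tmul (b : B →ₐ[K] K) (a : A) (β : B) : evB b (a ⊗ₜ[K] β) = b β • a := by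
  rw [evB, Algebra.TensorProduct.lift_tmul, AlgHom.id_apply, AlgHom.comp_apply,
    Algebra.ofId_apply, Algebra.smul_def, mul_comm]

/-- Contract the first factor with a linear functional. -/
noncomputable def contr (ℓ : A →ₗ[K] K) : A ⊗[K] B →ₗ[K] B :=
  (TensorProduct.lid K B).toLinearMap ∘ₗ (ℓ.rTensor B)

theorem contr_tmul (ℓ : A →ₗ[K] K) (a : A) (β : B) : contr ℓ (a ⊗ₜ[K] β) = ℓ a • β := by
  simp [contr]

theorem apply_contr (ℓ : A →ₗ[K] K) (b : B →ₐ[K] K) (u : A ⊗[K] B) :
    b (contr ℓ u) = ℓ (evB b u) := by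
  induction u using TensorProduct.induction_on with
  | zero => simp
  | tmul a β =>
    rw [contr_tmul, evB_tmul, map_smul, map_smul, smul_eq_mul, smul_eq_mul, mul_comm]
  | add x y hx hy => rw [map_add, map_add, map_add, map_add, hx, hy]

variable {F : Type*} [Field F] [Algebra K F]

theorem val_smul_le (O : ValuationSubring F) (hO : ∀ c : K, algebraMap K F c ∈ O) (c : K)
    (x : F) : O.valuation (c • x) ≤ O.valuation x := by
  rw [Algebra.smul_def, map_mul]
  calc O.valuation (algebraMap K F c) * O.valuation x ≤ 1 * O.valuation x :=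
        mul_le_mul' ((O.valuation_le_one_iff _).mpr (hO c)) le_rfl
    _ = O.valuation x := one_mul _

/-- The `K`-subspace `{v < g}`. -/
def ltSub (O : ValuationSubring F) (hO : ∀ c : K, algebraMap K F c ∈ O) (g : O.ValueGroup)
    (hg : 0 < g) : Submodule K F where
  carrier := {x | O.valuation x < g}
  zero_mem' := by simpa using hg
  add_mem' := by
    intro a b ha hb
    show O.valuation (a + b) < g
    exact Valuation.map_add_lt _ ha hb
  smul_mem' := by
    intro c x hx
    exact lt_of_le_of_lt (val_smul_le O hO c x) hx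

theorem mem_ltSub (O : ValuationSubring F) (hO : ∀ c : K, algebraMap K F c ∈ O) (g : O.ValueGroup)
    (hg : 0 < g) (x : F) : x ∈ ltSub O hO g hg ↔ O.valuation x < g := Iff.rfl

/-- The `K`-subspace `{v ≤ g}`. -/
def leSub (O : ValuationSubring F) (hO : ∀ c : K, algebraMap K F c ∈ O) (g : O.ValueGroup) :
    Submodule K F where
  carrier := {x | O.valuation x ≤ g}
  zero_mem' := by simp
  add_mem' := by
    intro a b ha hb
    show O.valuation (a + b) ≤ g
    exact Valuation.map_add_le _ ha hb
  smul_mem' := by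
    intro c x hx
    exact le_trans (val_smul_le O hO c x) hx

theorem mem_leSub (O : ValuationSubring F) (hO : ∀ c : K, algebraMap K F c ∈ O) (g : O.ValueGroup)
    (x : F) : x ∈ leSub O hO g ↔ O.valuation x ≤ g := Iff.rfl

theorem exists_sep (io : A →ₐ[K] F) (W : Submodule K F) (u : A ⊗[K] B) (b₀ : B →ₐ[K] K)
    (h₀ : io (evB b₀ u) ∉ W) :
    ∃ β : B, b₀ β ≠ 0 ∧ ∀ b : B →ₐ[K] K, io (evB b u) ∈ W → b β = 0 := by
  obtain ⟨ℓ, hℓ, hW⟩ := Submodule.exists_le_ker_of_notMem h₀
  refine ⟨contr (ℓ ∘ₗ io.toLinearMap) u, ?_, fun b hb => ?_⟩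
  · rw [apply_contr]
    exact hℓ
  · rw [apply_contr]
    exact LinearMap.mem_ker.mp (hW hb)

theorem val_const [IsDomain B] (hB : ∀ β : B, β ≠ 0 → ∃ b : B →ₐ[K] K, b β ≠ 0)
    (io : A →ₐ[K] F) (O : ValuationSubring F) (hO : ∀ c : K, algebraMap K F c ∈ O)
    (u w : A ⊗[K] B) (huw : u * w = 1) (b₁ b₂ : B →ₐ[K] K) :
    ¬ O.valuation (io (evB b₁ u)) < O.valuation (io (evB b₂ u)) := by
  intro hlt
  have hv : ∀ b : B →ₐ[K] K,
      O.valuation (io (evB b u)) * O.valuation (io (evB b w)) = 1 := fun b => by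
    rw [← map_mul, ← map_mul, ← map_mul, huw, map_one, map_one, map_one]
  have hpos : ∀ b : B →ₐ[K] K, 0 < O.valuation (io (evB b u)) := fun b =>
    zero_lt_iff.mpr (left_ne_zero_of_mul_eq_one (hv b))
  have hinv : ∀ b : B →ₐ[K] K,
      O.valuation (io (evB b w)) = (O.valuation (io (evB b u)))⁻¹ := fun b =>
    eq_inv_of_mul_eq_one_right (hv b)
  obtain ⟨g, hg⟩ : ∃ g, g = O.valuation (io (evB b₂ u)) := ⟨_, rfl⟩
  have hgpos : 0 < g := hg ▸ hpos b₂
  obtain ⟨β, hβ₂, hβ⟩ := exists_sep io (ltSub O hO g hgpos) u b₂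
    (fun h => lt_irrefl g (by
      have h' := (mem_ltSub O hO g hgpos _).mp h
      rwa [← hg] at h'))
  obtain ⟨β', hβ₁, hβ'⟩ := exists_sep io (leSub O hO g⁻¹) w b₁ (fun h => by
    have h' : O.valuation (io (evB b₁ w)) ≤ g⁻¹ := (mem_leSub O hO g⁻¹ _).mp h
    rw [hinv b₁, inv_le_inv₀ (hpos b₁) hgpos] at h'
    rw [← hg] at hlt
    exact not_le.mpr hlt h')
  have hall : ∀ b : B →ₐ[K] K, b (β * β') = 0 := by
    intro b
    rw [map_mul]
    rcases lt_or_ge (O.valuation (io (evB b u))) g with h | h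
    · rw [hβ b ((mem_ltSub O hO g hgpos _).mpr h), zero_mul]
    · have h3 : O.valuation (io (evB b w)) ≤ g⁻¹ := by
        rw [hinv b, inv_le_inv₀ (hpos b) hgpos]
        exact h
      rw [hβ' b ((mem_leSub O hO g⁻¹ _).mpr h3), mul_zero]
  have hzero : β * β' = 0 := by
    by_contra hne
    obtain ⟨b, hb⟩ := hB _ hne
    exact hb (hall b)
  rcases mul_eq_zero.mp hzero with h | h
  · exact hβ₂ (by rw [h, map_zero])
  · exact hβ₁ (by rw [h, map_zero])

/-- Core lemma, with an abstract fraction field. -/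
theorem core' [IsAlgClosed K] [IsDomain A] [IsDomain B] [Algebra A F] [IsScalarTower K A F]
    [IsFractionRing A F]
    (hB : ∀ β : B, β ≠ 0 → ∃ b : B →ₐ[K] K, b β ≠ 0) (u w : A ⊗[K] B) (huw : u * w = 1)
    (b b' : B →ₐ[K] K) : ∃ c : K, evB b u = c • evB b' u := by
  obtain ⟨io, hio⟩ : ∃ io : A →ₐ[K] F, io = IsScalarTower.toAlgHom K A F := ⟨_, rfl⟩
  have hinj : Function.Injective io := by
    rw [hio]
    exact IsFractionRing.injective A F
  obtain ⟨g, hg⟩ : ∃ g : A, g = evB b u * evB b' w := ⟨_, rfl⟩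
  have hmul : ∀ b₀ : B →ₐ[K] K, evB b₀ u * evB b₀ w = 1 := fun b₀ => by
    rw [← map_mul, huw, map_one]
  have h1 : ∀ O : ValuationSubring F, (∀ c : K, algebraMap K F c ∈ O) → io g ∈ O := by
    intro O hO
    rw [← O.valuation_le_one_iff]
    have e1 : O.valuation (io (evB b u)) = O.valuation (io (evB b' u)) :=
      le_antisymm (not_lt.mp (val_const hB io O hO u w huw b' b))
        (not_lt.mp (val_const hB io O hO u w huw b b'))
    have e2 : O.valuation (io (evB b' u)) * O.valuation (io (evB b' w)) = 1 := by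
      rw [← map_mul, ← map_mul, hmul, map_one, map_one]
    rw [hg, map_mul, map_mul, e1, e2]
  have h2 : io g ∈
      (integralClosure (Subring.closure (Set.range (algebraMap K F))) F).toSubring := by
    rw [← iInf_valuationSubring_superset, Subring.mem_iInf]
    rintro ⟨V, hV⟩
    exact h1 V (fun c => hV (Set.mem_range_self c))
  have h3 : IsIntegral (Subring.closure (Set.range (algebraMap K F))) (io g) := by
    rwa [Subalgebra.mem_toSubring, mem_integralClosure_iff] at h2
  have h4 : IsIntegral K (io g) := by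
    obtain ⟨p, hp, hpx⟩ := h3
    have hle : Subring.closure (Set.range (algebraMap K F)) ≤ (algebraMap K F).range :=
      Subring.closure_le.mpr (by rintro _ ⟨c, rfl⟩; exact ⟨c, rfl⟩)
    have hP : p.map (algebraMap (Subring.closure (Set.range (algebraMap K F))) F) ∈
        Polynomial.lifts (algebraMap K F) := by
      rw [Polynomial.lifts_iff_coeff_lifts]
      intro n
      rw [Polynomial.coeff_map]
      obtain ⟨c, hc⟩ := hle (p.coeff n).2
      exact ⟨c, hc⟩
    obtain ⟨q, hq, -, hqm⟩ := Polynomial.lifts_and_degree_eq_and_monic hP (hp.map _)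
    refine ⟨q, hqm, ?_⟩
    rw [← Polynomial.eval_map, hq, Polynomial.eval_map]
    exact hpx
  have h5 : io g ∈ (algebraMap K F).range := by
    apply minpoly.mem_range_of_degree_eq_one K
    exact IsAlgClosed.degree_eq_one_of_irreducible K (minpoly.irreducible h4)
  obtain ⟨c, hc⟩ := h5
  have h6 : g = algebraMap K A c := by
    apply hinj
    rw [← hc]
    exact (io.commutes c).symm
  refine ⟨c, ?_⟩
  calc evB b u = evB b u * (evB b' w * evB b' u) := by
        rw [mul_comm (evB b' w), hmul, mul_one]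
    _ = g * evB b' u := by rw [hg, mul_assoc]
    _ = c • evB b' u := by rw [h6, Algebra.smul_def]

/-- **Core lemma** (Rosenlicht): a unit of `A ⊗[K] B` has proportional specialisations at the
`K`-points of `B`. -/
theorem core [IsAlgClosed K] [IsDomain A] [IsDomain B]
    (hB : ∀ β : B, β ≠ 0 → ∃ b : B →ₐ[K] K, b β ≠ 0) (u w : A ⊗[K] B) (huw : u * w = 1)
    (b b' : B →ₐ[K] K) : ∃ c : K, evB b u = c • evB b' u :=
  core' (F := FractionRing A) hB u w huw b b'

end Core

section LocalConst

theorem local_const {K : Type*} [Field K] [IsAlgClosed K] {R : Type*} [CommRing R] [Algebra K R]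
    [Algebra.FiniteType K R] {T : Type*} (φ : (R →ₐ[K] K) → T)
    (hφ : ∀ (p : Ideal R), p.IsPrime → ∀ (a a' : R →ₐ[K] K), (∀ r ∈ p, a r = 0) →
      (∀ r ∈ p, a' r = 0) → φ a = φ a')
    (q : Ideal R) [hq : q.IsPrime] :
    ∃ s : R, s ∉ q ∧ ∃ t : T, ∀ a : R →ₐ[K] K, a s ≠ 0 → φ a = t := by
  classical
  haveI : IsNoetherianRing R := Algebra.FiniteType.isNoetherianRing K R
  have hfin : (⊥ : Ideal R).minimalPrimes.Finite :=
    Ideal.finite_minimalPrimes_of_isNoetherianRing R ⊥
  obtain ⟨M', hM'⟩ : ∃ M' : Finset (Ideal R), M' = hfin.toFinset.filter (fun p => ¬ p ≤ q) :=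
    ⟨_, rfl⟩
  have hJ : ¬ M'.inf id ≤ q := by
    rw [Ideal.IsPrime.inf_le' hq]
    rintro ⟨p, hp, hpq⟩
    rw [hM'] at hp
    exact (Finset.mem_filter.mp hp).2 hpq
  obtain ⟨s, hsJ, hsq⟩ := SetLike.not_le_iff_exists.mp hJ
  have hsM : ∀ p ∈ M', s ∈ p := fun p hp => (Finset.inf_le hp : M'.inf id ≤ id p) hsJ
  have hsbar : ¬ IsNilpotent (Ideal.Quotient.mk q s) := by
    intro h
    exact hsq (Ideal.Quotient.eq_zero_iff_mem.mp h.eq_zero)
  haveI : Algebra.FiniteType K (R ⧸ q) :=
    Algebra.FiniteType.of_surjective (Ideal.Quotient.mkₐ K q) Ideal.Quotient.mk_surjective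
  obtain ⟨a₀', ha₀'⟩ := exists_algHom_ne_zero K K (Ideal.Quotient.mk q s) hsbar
  refine ⟨s, hsq, φ (a₀'.comp (Ideal.Quotient.mkₐ K q)), fun a has => ?_⟩
  haveI : (RingHom.ker a).IsPrime := RingHom.ker_isPrime a
  obtain ⟨p, hp, hpa⟩ := Ideal.exists_minimalPrimes_le (bot_le : (⊥ : Ideal R) ≤ RingHom.ker a)
  have hsp : s ∉ p := fun h => has (RingHom.mem_ker.mp (hpa h))
  have hpq : p ≤ q := by
    by_contra hn
    refine hsp (hsM p ?_)
    rw [hM']
    exact Finset.mem_filter.mpr ⟨hfin.mem_toFinset.mpr hp, hn⟩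
  refine hφ p hp.1.1 a _ (fun r hr => RingHom.mem_ker.mp (hpa hr)) (fun r hr => ?_)
  have h0 : Ideal.Quotient.mk q r = 0 := Ideal.Quotient.eq_zero_iff_mem.mpr (hpq hr)
  show a₀' (Ideal.Quotient.mk q r) = 0
  rw [h0, map_zero]

end LocalConst

end Groth.Agent.Helper6.RosUnit
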