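import Mathlib
import Groth.Agent.Lib.Helper6.RosUnit.RU1

/-!
# Rosenlicht's unit lemma: `K`-valued points and the chain lemma

For a scheme `Z` locally of finite type over a field `k` and an algebraically closed extension
`K` of `k`, the `K`-valued points of `Z` meet every nonempty open subset (`exists_pt_mem`).
For `k = K` and `Z` connected, a function on `Z(K)` which is constant on the `K`-points of every
integral affine scheme of finite type mapping to `Z` is constant (`chain`).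
-/

set_option backward.isDefEq.respectTransparency.types false
set_option autoImplicit false
set_option linter.unusedSectionVars false
set_option linter.unusedVariables false
set_option linter.style.haveILetI false
set_option linter.unusedSimpArgs false
set_option maxHeartbeats 800000
set_option synthInstance.maxHeartbeats 400000

open CategoryTheory CategoryTheory.Limits AlgebraicGeometry

namespace Groth.Agent.Helper6.RosUnit

universe u

noncomputable section

/-- The structure map `Spec K ⟶ Spec k`. -/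
abbrev gK (k K : Type u) [Field k] [Field K] [Algebra k K] :
    Spec (CommRingCat.of K) ⟶ Spec (CommRingCat.of k) :=
  Spec.map (CommRingCat.ofHom (algebraMap k K))

theorem gK_self (K : Type u) [Field K] : gK K K = 𝟙 _ := Spec.map_id _

/-- `K`-valued points of a `k`-scheme. -/
def Pt {k : Type u} [Field k] (K : Type u) [Field K] [Algebra k K] {Z : Scheme.{u}}
    (h : Z ⟶ Spec (CommRingCat.of k)) : Type u :=
  {z : Spec (CommRingCat.of K) ⟶ Z // z ≫ h = gK k K}

/-- The point of `Spec K`. -/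
abbrev pt (K : Type u) [Field K] : ↥(Spec (CommRingCat.of K)) := default

section

variable {k : Type u} [Field k] {K : Type u} [Field K] [Algebra k K] {Z : Scheme.{u}}
  {h : Z ⟶ Spec (CommRingCat.of k)}

/-- The `K`-valued point given by a ring map out of a chart. -/
def mkPt {R : CommRingCat.{u}} {ψ : CommRingCat.of k ⟶ R} {j : Spec R ⟶ Z}
    (hj : j ≫ h = Spec.map ψ) (a : R ⟶ CommRingCat.of K)
    (ha : ψ ≫ a = CommRingCat.ofHom (algebraMap k K)) : Pt K h :=
  ⟨Spec.map a ≫ j, by rw [Category.assoc, hj, ← Spec.map_comp, ha]⟩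

theorem mkPt_val {R : CommRingCat.{u}} {ψ : CommRingCat.of k ⟶ R} {j : Spec R ⟶ Z}
    (hj : j ≫ h = Spec.map ψ) (a : R ⟶ CommRingCat.of K)
    (ha : ψ ≫ a = CommRingCat.ofHom (algebraMap k K)) : (mkPt hj a ha).1 = Spec.map a ≫ j := rfl

theorem exists_chart_pt {R : CommRingCat.{u}} {ψ : CommRingCat.of k ⟶ R} {j : Spec R ⟶ Z}
    [IsOpenImmersion j] (hj : j ≫ h = Spec.map ψ) (x : Pt K h)
    (hx : x.1 (pt K) ∈ Set.range ⇑j) :
    ∃ (a : R ⟶ CommRingCat.of K) (ha : ψ ≫ a = CommRingCat.ofHom (algebraMap k K)),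
      x = mkPt hj a ha := by
  have hr : Set.range ⇑(x.1) ⊆ Set.range ⇑j := by
    rintro _ ⟨y, rfl⟩
    rw [Subsingleton.elim y (pt K)]
    exact hx
  refine ⟨Spec.preimage (IsOpenImmersion.lift j x.1 hr), ?_, ?_⟩
  · apply Spec.map_injective
    rw [Spec.map_comp, Spec.map_preimage, ← hj, ← Category.assoc, IsOpenImmersion.lift_fac]
    exact x.2
  · apply Subtype.ext
    rw [mkPt_val, Spec.map_preimage, IsOpenImmersion.lift_fac]

theorem comm_of {A : Type u} [CommRing A] [Algebra k A] (a : A →ₐ[k] K) :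
    CommRingCat.ofHom (algebraMap k A) ≫ CommRingCat.ofHom a.toRingHom =
      CommRingCat.ofHom (algebraMap k K) := by
  ext c
  exact a.commutes c

/-- An algebra map from a ring map commuting with the structure maps. -/
def algOf {A : Type u} [CommRing A] [Algebra k A] (a : A →+* K)
    (ha : ∀ c : k, a (algebraMap k A c) = algebraMap k K c) : A →ₐ[k] K :=
  { a with commutes' := ha }

theorem exists_chart (h : Z ⟶ Spec (CommRingCat.of k)) [LocallyOfFiniteType h] {U : Z.Opens}
    (hU : IsAffineOpen U) :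
    ∃ (ψ : CommRingCat.of k ⟶ Γ(Z, U)), ψ.hom.FiniteType ∧ hU.fromSpec ≫ h = Spec.map ψ := by
  refine ⟨Spec.preimage (hU.fromSpec ≫ h), ?_, (Spec.map_preimage _).symm⟩
  have : LocallyOfFiniteType (Spec.map (Spec.preimage (hU.fromSpec ≫ h))) := by
    rw [Spec.map_preimage]
    infer_instance
  exact (HasRingHomProperty.Spec_iff (P := @LocallyOfFiniteType)).mp this

/-- `K`-valued points are dense. -/
theorem exists_pt_mem [IsAlgClosed K] (h : Z ⟶ Spec (CommRingCat.of k)) [LocallyOfFiniteType h]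
    (N : Z.Opens) (hN : (N : Set Z).Nonempty) : ∃ z : Pt K h, z.1 (pt K) ∈ N := by
  obtain ⟨p, hp⟩ := hN
  obtain ⟨_, ⟨U, hU, rfl⟩, hpU, hUN⟩ :=
    Z.isBasis_affineOpens.exists_subset_of_mem_open hp N.isOpen
  obtain ⟨ψ, hψ, hj⟩ := exists_chart h hU
  letI : Algebra k Γ(Z, U) := ψ.hom.toAlgebra
  haveI : Algebra.FiniteType k Γ(Z, U) := hψ
  have hpr : p ∈ Set.range ⇑hU.fromSpec := by
    rw [hU.range_fromSpec]
    exact hpU
  obtain ⟨q, hq⟩ := hpr
  haveI : Nontrivial Γ(Z, U) := PrimeSpectrum.nontrivial q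
  obtain ⟨a, -⟩ := exists_algHom_ne_zero k K (1 : Γ(Z, U)) not_isNilpotent_one
  have ha : ψ ≫ CommRingCat.ofHom a.toRingHom = CommRingCat.ofHom (algebraMap k K) := comm_of a
  refine ⟨mkPt hj (CommRingCat.ofHom a.toRingHom) ha, hUN ?_⟩
  show (mkPt hj (CommRingCat.ofHom a.toRingHom) ha).1 (pt K) ∈ (U : Set Z)
  rw [mkPt_val, ← hU.range_fromSpec, Scheme.Hom.comp_apply]
  exact Set.mem_range_self _

end

section Chain

variable {K : Type u} [Field K] {Z : Scheme.{u}}

/-- `φ` is constant on the `K`-points of each integral affine piece. -/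
def PieceConst (h : Z ⟶ Spec (CommRingCat.of K)) {T : Type*} (φ : Pt K h → T) : Prop :=
  ∀ (A : CommRingCat.{u}) (_ : IsDomain A) (ψ : CommRingCat.of K ⟶ A) (_ : ψ.hom.FiniteType)
    (j : Spec A ⟶ Z) (hj : j ≫ h = Spec.map ψ) (a a' : A ⟶ CommRingCat.of K)
    (ha : ψ ≫ a = CommRingCat.ofHom (algebraMap K K))
    (ha' : ψ ≫ a' = CommRingCat.ofHom (algebraMap K K)),
    φ (mkPt hj a ha) = φ (mkPt hj a' ha')

variable [IsAlgClosed K] {h : Z ⟶ Spec (CommRingCat.of K)} [LocallyOfFiniteType h]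
  {T : Type*} {φ : Pt K h → T}

theorem local_claim (hφ : PieceConst h φ) (z : Z) :
    ∃ N : Z.Opens, z ∈ N ∧ ∃ t : T, ∀ x : Pt K h, x.1 (pt K) ∈ N → φ x = t := by
  obtain ⟨_, ⟨U, hU, rfl⟩, hzU, -⟩ :=
    Z.isBasis_affineOpens.exists_subset_of_mem_open (Set.mem_univ z) isOpen_univ
  obtain ⟨ψ, hψ, hj⟩ := exists_chart h hU
  letI : Algebra K Γ(Z, U) := ψ.hom.toAlgebra
  haveI : Algebra.FiniteType K Γ(Z, U) := hψ
  obtain ⟨q, hq⟩ : z ∈ Set.range ⇑hU.fromSpec := by
    rw [hU.range_fromSpec]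
    exact hzU
  have hcomm : ∀ a : Γ(Z, U) →ₐ[K] K,
      ψ ≫ CommRingCat.ofHom a.toRingHom = CommRingCat.ofHom (algebraMap K K) :=
    fun a => comm_of a
  haveI : (q : PrimeSpectrum Γ(Z, U)).asIdeal.IsPrime := (q : PrimeSpectrum Γ(Z, U)).isPrime
  have hyp : ∀ (p : Ideal Γ(Z, U)), p.IsPrime → ∀ (a a' : Γ(Z, U) →ₐ[K] K),
      (∀ r ∈ p, a r = 0) → (∀ r ∈ p, a' r = 0) →
      φ (mkPt hj (CommRingCat.ofHom a.toRingHom) (hcomm a)) =
        φ (mkPt hj (CommRingCat.ofHom a'.toRingHom) (hcomm a')) := by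
    intro p hp a a' ha ha'
    haveI := hp
    have hfin : (ψ ≫ CommRingCat.ofHom (Ideal.Quotient.mk p)).hom.FiniteType := by
      rw [CommRingCat.hom_comp]
      exact RingHom.FiniteType.comp
        (RingHom.FiniteType.of_surjective _ Ideal.Quotient.mk_surjective) hψ
    have hj' : (Spec.map (CommRingCat.ofHom (Ideal.Quotient.mk p)) ≫ hU.fromSpec) ≫ h =
        Spec.map (ψ ≫ CommRingCat.ofHom (Ideal.Quotient.mk p)) := by
      rw [Category.assoc, hj, ← Spec.map_comp]
    have e : ∀ (a : Γ(Z, U) →ₐ[K] K) (ha : ∀ r ∈ p, a r = 0),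
        CommRingCat.ofHom (Ideal.Quotient.mk p) ≫
          CommRingCat.ofHom (Ideal.Quotient.lift p a.toRingHom ha) =
          CommRingCat.ofHom a.toRingHom := by
      intro a ha
      ext r
      rfl
    have hab : ∀ (a : Γ(Z, U) →ₐ[K] K) (ha : ∀ r ∈ p, a r = 0),
        (ψ ≫ CommRingCat.ofHom (Ideal.Quotient.mk p)) ≫
          CommRingCat.ofHom (Ideal.Quotient.lift p a.toRingHom ha) =
          CommRingCat.ofHom (algebraMap K K) := by
      intro a ha
      rw [Category.assoc, e a ha]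
      exact hcomm a
    have key := hφ (CommRingCat.of (Γ(Z, U) ⧸ p)) (Ideal.Quotient.isDomain p)
      (ψ ≫ CommRingCat.ofHom (Ideal.Quotient.mk p)) hfin
      (Spec.map (CommRingCat.ofHom (Ideal.Quotient.mk p)) ≫ hU.fromSpec) hj'
      (CommRingCat.ofHom (Ideal.Quotient.lift p a.toRingHom ha))
      (CommRingCat.ofHom (Ideal.Quotient.lift p a'.toRingHom ha')) (hab a ha) (hab a' ha')
    have e1 : ∀ (a : Γ(Z, U) →ₐ[K] K) (ha : ∀ r ∈ p, a r = 0),
        mkPt hj' (CommRingCat.ofHom (Ideal.Quotient.lift p a.toRingHom ha)) (hab a ha) =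
          mkPt hj (CommRingCat.ofHom a.toRingHom) (hcomm a) := by
      intro a ha
      apply Subtype.ext
      rw [mkPt_val, mkPt_val, ← Category.assoc, ← Spec.map_comp, e a ha]
    rw [← e1 a ha, ← e1 a' ha']
    exact key
  obtain ⟨s, hsq, t, ht⟩ := local_const
    (fun a : Γ(Z, U) →ₐ[K] K => φ (mkPt hj (CommRingCat.ofHom a.toRingHom) (hcomm a))) hyp
    (q : PrimeSpectrum Γ(Z, U)).asIdeal
  refine ⟨Z.basicOpen s, ?_, t, fun x hx => ?_⟩
  · rw [← hq]
    have hmem : q ∈ hU.fromSpec ⁻¹ᵁ Z.basicOpen s := by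
      rw [hU.fromSpec_preimage_basicOpen]
      exact hsq
    exact hmem
  · have hxU : x.1 (pt K) ∈ Set.range ⇑hU.fromSpec := by
      rw [hU.range_fromSpec]
      exact Z.basicOpen_le s hx
    obtain ⟨a₁, ha₁, rfl⟩ := exists_chart_pt hj x hxU
    have h1 : (Spec.map a₁) (pt K) ∈ hU.fromSpec ⁻¹ᵁ Z.basicOpen s := by
      show hU.fromSpec ((Spec.map a₁) (pt K)) ∈ Z.basicOpen s
      rw [← Scheme.Hom.comp_apply]
      exact hx
    rw [hU.fromSpec_preimage_basicOpen, Spec.map_apply] at h1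
    have h1' : s ∉ (PrimeSpectrum.comap a₁.hom (pt K)).asIdeal :=
      (PrimeSpectrum.mem_basicOpen s (PrimeSpectrum.comap a₁.hom (pt K))).mp h1
    have hs : a₁.hom s ≠ 0 := by
      intro h0
      apply h1'
      rw [PrimeSpectrum.comap_asIdeal, Ideal.mem_comap, h0]
      exact zero_mem _
    have hc : ∀ c : K, a₁.hom (algebraMap K Γ(Z, U) c) = algebraMap K K c := fun c =>
      congrArg (fun f => f.hom c) ha₁
    have e2 : mkPt hj a₁ ha₁ =
        mkPt hj (CommRingCat.ofHom (algOf a₁.hom hc).toRingHom) (hcomm _) := Subtype.ext rfl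
    rw [e2]
    exact ht (algOf a₁.hom hc) hs

/-- **Chain lemma**: on a connected scheme locally of finite type over an algebraically closed
field, a function on `K`-points that is constant on integral affine pieces is constant. -/
theorem chain [ConnectedSpace Z] (hφ : PieceConst h φ) (x x' : Pt K h) : φ x = φ x' := by
  have key : ∀ x₀ x : Pt K h, φ x = φ x₀ := by
    intro x₀ x
    obtain ⟨A, hA⟩ : ∃ A : Set Z, A = {z | ∃ N : Z.Opens, z ∈ N ∧
        ∀ y : Pt K h, y.1 (pt K) ∈ N → φ y = φ x₀} := ⟨_, rfl⟩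
    have hAopen : IsOpen A := by
      rw [isOpen_iff_forall_mem_open]
      intro z hz
      rw [hA] at hz
      obtain ⟨N, hzN, hN⟩ := hz
      refine ⟨N, fun z' hz' => ?_, N.isOpen, hzN⟩
      rw [hA]
      exact ⟨N, hz', hN⟩
    have hAclosed : IsClosed A := by
      rw [← isOpen_compl_iff, isOpen_iff_forall_mem_open]
      intro z hz
      obtain ⟨N, hzN, t, ht⟩ := local_claim hφ z
      refine ⟨N, ?_, N.isOpen, hzN⟩
      intro z' hz'N hz'A
      rw [hA] at hz'A
      obtain ⟨N', hz'N', hN'⟩ := hz'A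
      obtain ⟨y, hy⟩ := exists_pt_mem (K := K) h (N ⊓ N') ⟨z', hz'N, hz'N'⟩
      have e1 := ht y hy.1
      have e2 := hN' y hy.2
      apply hz
      rw [hA]
      exact ⟨N, hzN, fun y' hy' => (ht y' hy').trans (e1.symm.trans e2)⟩
    have hne : A.Nonempty := by
      obtain ⟨N, hN, t, ht⟩ := local_claim hφ (x₀.1 (pt K))
      refine ⟨x₀.1 (pt K), ?_⟩
      rw [hA]
      exact ⟨N, hN, fun y hy => (ht y hy).trans (ht x₀ hN).symm⟩
    have huniv : A = Set.univ := IsClopen.eq_univ ⟨hAclosed, hAopen⟩ hne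
    have hx : x.1 (pt K) ∈ A := by
      rw [huniv]
      exact Set.mem_univ _
    rw [hA] at hx
    obtain ⟨N, hN, hN'⟩ := hx
    exact hN' x hN
  exact key x' x

end Chain

end

end Groth.Agent.Helper6.RosUnit
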