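import Mathlib
import Groth.Agent.Lib.Helper6.RosUnit.RU2

/-!
# Rosenlicht's unit lemma: values of a unit on a product at pairs of points

`thmR`: for connected schemes `X`, `Y` locally of finite type over an algebraically closed field
`K` and a unit `F` on `X ×_K Y`, the values at `K`-points satisfy
`F(x,y) F(x',y') = F(x,y') F(x',y)`.
-/

set_option backward.isDefEq.respectTransparency.types false
set_option autoImplicit false
set_option linter.unusedSectionVars false
set_option linter.unusedVariables false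
set_option linter.style.haveILetI false
set_option linter.unusedSimpArgs false
set_option maxHeartbeats 800000
set_option synthInstance.maxHeartbeats 400000

open CategoryTheory CategoryTheory.Limits AlgebraicGeometry
open scoped TensorProduct

namespace Groth.Agent.Helper6.RosUnit

universe u

noncomputable section

section Ev

variable {K : Type u} [Field K]

/-- The value of a global section at a `K`-valued point. -/
def evHom {P : Scheme.{u}} (z : Spec (CommRingCat.of K) ⟶ P) : Γ(P, ⊤) →+* K :=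
  (z.appTop ≫ (Scheme.ΓSpecIso (CommRingCat.of K)).hom).hom

theorem evHom_comp {P Q : Scheme.{u}} (z : Spec (CommRingCat.of K) ⟶ P) (r : P ⟶ Q)
    (s : Γ(Q, ⊤)) : evHom (z ≫ r) s = evHom z (r.appTop s) := by
  unfold evHom
  rw [Scheme.Hom.comp_appTop, Category.assoc]
  rfl

theorem evHom_map_comp {P : Scheme.{u}} {A : CommRingCat.{u}} (a : A ⟶ CommRingCat.of K)
    (c : Spec A ⟶ P) (s : Γ(P, ⊤)) :
    evHom (Spec.map a ≫ c) s = a.hom ((c.appTop ≫ (Scheme.ΓSpecIso A).hom).hom s) := by
  unfold evHom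
  rw [Scheme.Hom.comp_appTop, Category.assoc, Scheme.ΓSpecIso_naturality, ← Category.assoc]
  rfl

theorem evHom_eq_zero_iff {P : Scheme.{u}} (z : Spec (CommRingCat.of K) ⟶ P) (s : Γ(P, ⊤)) :
    evHom z s = 0 ↔ z.appTop s = 0 := by
  constructor
  · intro h0
    have h1 := congrArg (Scheme.ΓSpecIso (CommRingCat.of K)).inv.hom h0
    rw [map_zero] at h1
    rw [← h1]
    unfold evHom
    rw [CommRingCat.hom_comp, RingHom.comp_apply]
    exact (congrArg (fun f => f.hom (z.appTop.hom s))
      (Scheme.ΓSpecIso (CommRingCat.of K)).hom_inv_id).symm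
  · intro h0
    unfold evHom
    rw [CommRingCat.hom_comp, RingHom.comp_apply]
    have : z.appTop.hom s = 0 := h0
    rw [this, map_zero]

end Ev

section R

variable {K : Type u} [Field K] [IsAlgClosed K] {X Y : Scheme.{u}}
  (hX : X ⟶ Spec (CommRingCat.of K)) (hY : Y ⟶ Spec (CommRingCat.of K))

/-- The pair of two `K`-points. -/
def pr (x : Pt K hX) (y : Pt K hY) : Spec (CommRingCat.of K) ⟶ pullback hX hY :=
  pullback.lift x.1 y.1 (x.2.trans y.2.symm)

theorem lift_eq_evB {A B : Type u} [CommRing A] [CommRing B] [Algebra K A] [Algebra K B]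
    (a : A →ₐ[K] K) (b : B →ₐ[K] K) (t : A ⊗[K] B) :
    Algebra.TensorProduct.lift a b (fun _ _ => Commute.all _ _) t = a (evB b t) := by
  induction t using TensorProduct.induction_on with
  | zero => simp
  | tmul x β =>
    rw [Algebra.TensorProduct.lift_tmul, evB_tmul, map_smul, smul_eq_mul, mul_comm]
  | add x y hx hy => rw [map_add, map_add, map_add, hx, hy]

theorem piece_Q {A B : Type u} [CommRing A] [CommRing B] [IsDomain A] [IsDomain B]
    [Algebra K A] [Algebra K B] [Algebra.FiniteType K B]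
    (jA : Spec (CommRingCat.of A) ⟶ X) (jB : Spec (CommRingCat.of B) ⟶ Y)
    (hjA : jA ≫ hX = Spec.map (CommRingCat.ofHom (algebraMap K A)))
    (hjB : jB ≫ hY = Spec.map (CommRingCat.ofHom (algebraMap K B)))
    (a a' : A →ₐ[K] K) (b b' : B →ₐ[K] K) (F : Γ(pullback hX hY, ⊤)) (hF : IsUnit F) :
    evHom (pr hX hY (mkPt hjA (CommRingCat.ofHom a.toRingHom) (comm_of a))
        (mkPt hjB (CommRingCat.ofHom b.toRingHom) (comm_of b))) F *
      evHom (pr hX hY (mkPt hjA (CommRingCat.ofHom a'.toRingHom) (comm_of a'))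
        (mkPt hjB (CommRingCat.ofHom b'.toRingHom) (comm_of b'))) F =
    evHom (pr hX hY (mkPt hjA (CommRingCat.ofHom a.toRingHom) (comm_of a))
        (mkPt hjB (CommRingCat.ofHom b'.toRingHom) (comm_of b'))) F *
      evHom (pr hX hY (mkPt hjA (CommRingCat.ofHom a'.toRingHom) (comm_of a'))
        (mkPt hjB (CommRingCat.ofHom b.toRingHom) (comm_of b))) F := by
  have hcond : (Spec.map (CommRingCat.ofHom
        (Algebra.TensorProduct.includeLeft : A →ₐ[K] A ⊗[K] B).toRingHom) ≫ jA) ≫ hX =
      (Spec.map (CommRingCat.ofHom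
        (Algebra.TensorProduct.includeRight : B →ₐ[K] A ⊗[K] B).toRingHom) ≫ jB) ≫ hY := by
    rw [Category.assoc, hjA, Category.assoc, hjB, ← Spec.map_comp, ← Spec.map_comp]
    congr 1
    ext c
    show (Algebra.TensorProduct.includeLeft : A →ₐ[K] A ⊗[K] B) (algebraMap K A c) =
      (Algebra.TensorProduct.includeRight : B →ₐ[K] A ⊗[K] B) (algebraMap K B c)
    rw [AlgHom.commutes, AlgHom.commutes]
  obtain ⟨c₀, hc₀⟩ : ∃ c₀ : Spec (CommRingCat.of (A ⊗[K] B)) ⟶ pullback hX hY,
      c₀ = pullback.lift _ _ hcond := ⟨_, rfl⟩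
  obtain ⟨G, hG⟩ : ∃ G : Γ(pullback hX hY, ⊤) →+* A ⊗[K] B,
      G = (c₀.appTop ≫ (Scheme.ΓSpecIso (CommRingCat.of (A ⊗[K] B))).hom).hom := ⟨_, rfl⟩
  have huw : G F * G ↑(hF.unit⁻¹) = 1 := by
    rw [← map_mul, IsUnit.mul_val_inv, map_one]
  have key : ∀ (a : A →ₐ[K] K) (b : B →ₐ[K] K),
      evHom (pr hX hY (mkPt hjA (CommRingCat.ofHom a.toRingHom) (comm_of a))
        (mkPt hjB (CommRingCat.ofHom b.toRingHom) (comm_of b))) F = a (evB b (G F)) := by
    intro a b
    have hpr : pr hX hY (mkPt hjA (CommRingCat.ofHom a.toRingHom) (comm_of a))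
        (mkPt hjB (CommRingCat.ofHom b.toRingHom) (comm_of b)) =
        Spec.map (CommRingCat.ofHom
          (Algebra.TensorProduct.lift a b (fun _ _ => Commute.all _ _)).toRingHom) ≫ c₀ := by
      rw [hc₀]
      apply pullback.hom_ext
      · rw [pr, pullback.lift_fst, Category.assoc, pullback.lift_fst, ← Category.assoc,
          ← Spec.map_comp, mkPt_val]
        congr 2
        ext x
        show a x = Algebra.TensorProduct.lift a b (fun _ _ => Commute.all _ _)
          (x ⊗ₜ[K] (1 : B))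
        rw [Algebra.TensorProduct.lift_tmul, map_one, mul_one]
      · rw [pr, pullback.lift_snd, Category.assoc, pullback.lift_snd, ← Category.assoc,
          ← Spec.map_comp, mkPt_val]
        congr 2
        ext x
        show b x = Algebra.TensorProduct.lift a b (fun _ _ => Commute.all _ _)
          ((1 : A) ⊗ₜ[K] x)
        rw [Algebra.TensorProduct.lift_tmul, map_one, one_mul]
    rw [hpr, evHom_map_comp, ← hG]
    exact lift_eq_evB a b (G F)
  have hB : ∀ β : B, β ≠ 0 → ∃ b : B →ₐ[K] K, b β ≠ 0 := fun β hβ =>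
    exists_algHom_ne_zero K K β (fun h => hβ h.eq_zero)
  obtain ⟨cc, hcc⟩ := core hB (G F) (G ↑(hF.unit⁻¹)) huw b b'
  rw [key a b, key a' b', key a b', key a' b, hcc, map_smul, map_smul, smul_eq_mul, smul_eq_mul]
  ring

/-- Ring-map form of `piece_Q`. -/
theorem piece_Q' {A B : CommRingCat.{u}} (hA : IsDomain A) (hB : IsDomain B)
    (ψA : CommRingCat.of K ⟶ A) (ψB : CommRingCat.of K ⟶ B) (hψB : ψB.hom.FiniteType)
    (jA : Spec A ⟶ X) (jB : Spec B ⟶ Y) (hjA : jA ≫ hX = Spec.map ψA)
    (hjB : jB ≫ hY = Spec.map ψB) (a a' : A ⟶ CommRingCat.of K)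
    (ha : ψA ≫ a = CommRingCat.ofHom (algebraMap K K))
    (ha' : ψA ≫ a' = CommRingCat.ofHom (algebraMap K K)) (b b' : B ⟶ CommRingCat.of K)
    (hb : ψB ≫ b = CommRingCat.ofHom (algebraMap K K))
    (hb' : ψB ≫ b' = CommRingCat.ofHom (algebraMap K K))
    (F : Γ(pullback hX hY, ⊤)) (hF : IsUnit F) :
    evHom (pr hX hY (mkPt hjA a ha) (mkPt hjB b hb)) F *
      evHom (pr hX hY (mkPt hjA a' ha') (mkPt hjB b' hb')) F =
    evHom (pr hX hY (mkPt hjA a ha) (mkPt hjB b' hb')) F *
      evHom (pr hX hY (mkPt hjA a' ha') (mkPt hjB b hb)) F := by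
  letI : Algebra K A := ψA.hom.toAlgebra
  letI : Algebra K B := ψB.hom.toAlgebra
  haveI : Algebra.FiniteType K B := hψB
  exact piece_Q hX hY (A := A) (B := B) jA jB hjA hjB
    (algOf a.hom (fun c => congrArg (fun f => f.hom c) ha))
    (algOf a'.hom (fun c => congrArg (fun f => f.hom c) ha'))
    (algOf b.hom (fun c => congrArg (fun f => f.hom c) hb))
    (algOf b'.hom (fun c => congrArg (fun f => f.hom c) hb')) F hF

/-- **Theorem R**: the values of a unit on a product of connected schemes locally of finite type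
over an algebraically closed field are "bimultiplicative" in the two points. -/
theorem thmR [LocallyOfFiniteType hX] [LocallyOfFiniteType hY] [ConnectedSpace X]
    [ConnectedSpace Y] (F : Γ(pullback hX hY, ⊤)) (hF : IsUnit F) (x x' : Pt K hX)
    (y y' : Pt K hY) :
    evHom (pr hX hY x y) F * evHom (pr hX hY x' y') F =
      evHom (pr hX hY x y') F * evHom (pr hX hY x' y) F := by
  have hne : ∀ (x : Pt K hX) (y : Pt K hY), evHom (pr hX hY x y) F ≠ 0 := fun x y =>
    (hF.map (evHom (pr hX hY x y))).ne_zero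
  have stepA : ∀ (y y' : Pt K hY), (∀ x x' : Pt K hX,
      evHom (pr hX hY x y) F * evHom (pr hX hY x' y') F =
        evHom (pr hX hY x y') F * evHom (pr hX hY x' y) F) ↔
      ∀ x x' : Pt K hX, evHom (pr hX hY x y) F / evHom (pr hX hY x y') F =
        evHom (pr hX hY x' y) F / evHom (pr hX hY x' y') F := by
    intro y y'
    refine forall_congr' fun x => forall_congr' fun x' => ?_
    rw [div_eq_div_iff (hne x y') (hne x' y'), mul_comm (evHom (pr hX hY x' y) F)]
  have hA : ∀ (B : CommRingCat.{u}) (hB : IsDomain B) (ψB : CommRingCat.of K ⟶ B)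
      (hψB : ψB.hom.FiniteType) (jB : Spec B ⟶ Y) (hjB : jB ≫ hY = Spec.map ψB)
      (b b' : B ⟶ CommRingCat.of K) (hb : ψB ≫ b = CommRingCat.ofHom (algebraMap K K))
      (hb' : ψB ≫ b' = CommRingCat.ofHom (algebraMap K K)) (x x' : Pt K hX),
      evHom (pr hX hY x (mkPt hjB b hb)) F * evHom (pr hX hY x' (mkPt hjB b' hb')) F =
        evHom (pr hX hY x (mkPt hjB b' hb')) F * evHom (pr hX hY x' (mkPt hjB b hb)) F := by
    intro B hB ψB hψB jB hjB b b' hb hb'
    rw [stepA]
    intro x x'
    refine chain (h := hX)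
      (φ := fun x => evHom (pr hX hY x (mkPt hjB b hb)) F /
        evHom (pr hX hY x (mkPt hjB b' hb')) F) ?_ x x'
    intro A hA ψA hψA jA hjA a a' ha ha'
    show evHom (pr hX hY (mkPt hjA a ha) (mkPt hjB b hb)) F /
        evHom (pr hX hY (mkPt hjA a ha) (mkPt hjB b' hb')) F =
      evHom (pr hX hY (mkPt hjA a' ha') (mkPt hjB b hb)) F /
        evHom (pr hX hY (mkPt hjA a' ha') (mkPt hjB b' hb')) F
    rw [div_eq_div_iff (hne _ _) (hne _ _),
      mul_comm (evHom (pr hX hY (mkPt hjA a' ha') (mkPt hjB b hb)) F)]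
    exact piece_Q' hX hY hA hB ψA ψB hψB jA jB hjA hjB a a' ha ha' b b' hb hb' F hF
  have hfin : evHom (pr hX hY x y) F / evHom (pr hX hY x' y) F =
      evHom (pr hX hY x y') F / evHom (pr hX hY x' y') F := by
    refine chain (h := hY)
      (φ := fun y => evHom (pr hX hY x y) F / evHom (pr hX hY x' y) F) ?_ y y'
    intro B hB ψB hψB jB hjB b b' hb hb'
    show evHom (pr hX hY x (mkPt hjB b hb)) F / evHom (pr hX hY x' (mkPt hjB b hb)) F =
      evHom (pr hX hY x (mkPt hjB b' hb')) F / evHom (pr hX hY x' (mkPt hjB b' hb')) F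
    rw [div_eq_div_iff (hne _ _) (hne _ _)]
    exact hA B hB ψB hψB jB hjB b b' hb hb' x x'
  rwa [div_eq_div_iff (hne _ _) (hne _ _)] at hfin

end R

end

end Groth.Agent.Helper6.RosUnit
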