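import Mathlib
import Groth.Agent.Lib.Helper6.RosUnit.RU3

/-!
# Rosenlicht's unit lemma

`unit_eq_one`: let `X`, `Y` be schemes locally of finite type over a field `k` which become
connected over an algebraically closed extension `K`, with `X ×_k Y` reduced, and with rational
points `x₀`, `y₀`.  A unit on `X ×_k Y` whose restrictions to `X × y₀` and `x₀ × Y` are `1` is `1`.
-/

set_option backward.isDefEq.respectTransparency.types false
set_option autoImplicit false
set_option linter.unusedSectionVars false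
set_option linter.unusedVariables false
set_option linter.style.haveILetI false
set_option linter.unusedSimpArgs false
set_option maxHeartbeats 800000
set_option synthInstance.maxHeartbeats 400000

open CategoryTheory CategoryTheory.Limits AlgebraicGeometry MonoidalCategory
  CartesianMonoidalCategory

namespace Groth.Agent.Helper6.RosUnit

universe u

noncomputable section

section V

variable {k K : Type u} [Field k] [Field K] [IsAlgClosed K] [Algebra k K]

/-- A global section of a reduced scheme locally of finite type over `k` vanishing at all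
`K`-valued points is zero. -/
theorem eq_zero_of_evHom {P : Scheme.{u}} (h : P ⟶ Spec (CommRingCat.of k))
    [LocallyOfFiniteType h] [IsReduced P] (s : Γ(P, ⊤)) (hs : ∀ z : Pt K h, evHom z.1 s = 0) :
    s = 0 := by
  rw [← basicOpen_eq_bot_iff]
  by_contra hne
  obtain ⟨z, hz⟩ := exists_pt_mem (K := K) h (P.basicOpen s)
    ((TopologicalSpace.Opens.ne_bot_iff_nonempty _).mp hne)
  have h1 : pt K ∈ z.1 ⁻¹ᵁ P.basicOpen s := hz
  rw [Scheme.preimage_basicOpen] at h1
  have h2 : (ConcreteCategory.hom (z.1.app ⊤)) s = 0 := (evHom_eq_zero_iff z.1 s).mp (hs z)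
  rw [h2, Scheme.basicOpen_zero] at h1
  simp at h1

end V

section S

variable {k : Type u} [Field k] (K : Type u) [Field K] [Algebra k K] {X Y : Scheme.{u}}
  (hX : X ⟶ Spec (CommRingCat.of k)) (hY : Y ⟶ Spec (CommRingCat.of k))

/-- The structure map of the base change to `K`. -/
abbrev sK : pullback hX (gK k K) ⟶ Spec (CommRingCat.of K) := pullback.snd hX (gK k K)

/-- A `K`-valued point of `X` as a `K`-point of `X_K`. -/
def liftPt (w : Spec (CommRingCat.of K) ⟶ X) (hw : w ≫ hX = gK k K) : Pt K (sK K hX) :=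
  ⟨pullback.lift w (𝟙 _) (by rw [hw, Category.id_comp]), by rw [pullback.lift_snd, gK_self]⟩

theorem liftPt_fst (w : Spec (CommRingCat.of K) ⟶ X) (hw : w ≫ hX = gK k K) :
    (liftPt K hX w hw).1 ≫ pullback.fst hX (gK k K) = w := pullback.lift_fst _ _ _

theorem rho_cond : (pullback.fst (sK K hX) (sK K hY) ≫ pullback.fst hX (gK k K)) ≫ hX =
    (pullback.snd (sK K hX) (sK K hY) ≫ pullback.fst hY (gK k K)) ≫ hY := by
  rw [Category.assoc, pullback.condition, Category.assoc, pullback.condition, ← Category.assoc,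
    pullback.condition, Category.assoc]

/-- The map `X_K ×_K Y_K ⟶ X ×_k Y`. -/
def rho : pullback (sK K hX) (sK K hY) ⟶ pullback hX hY :=
  pullback.lift _ _ (rho_cond K hX hY)

theorem pr_rho (wx : Spec (CommRingCat.of K) ⟶ X) (hwx : wx ≫ hX = gK k K)
    (wy : Spec (CommRingCat.of K) ⟶ Y) (hwy : wy ≫ hY = gK k K) :
    pr (sK K hX) (sK K hY) (liftPt K hX wx hwx) (liftPt K hY wy hwy) ≫ rho K hX hY =
      pullback.lift wx wy (hwx.trans hwy.symm) := by
  apply pullback.hom_ext
  · rw [Category.assoc, rho, pullback.lift_fst, pullback.lift_fst, ← Category.assoc, pr,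
      pullback.lift_fst, liftPt_fst]
  · rw [Category.assoc, rho, pullback.lift_snd, pullback.lift_snd, ← Category.assoc, pr,
      pullback.lift_snd, liftPt_fst]

variable [IsAlgClosed K]

theorem unit_eq_one_aux [LocallyOfFiniteType hX] [LocallyOfFiniteType hY]
    [ConnectedSpace ↑(pullback hX (gK k K))] [ConnectedSpace ↑(pullback hY (gK k K))]
    [IsReduced (pullback hX hY)]
    (x₀ : Spec (CommRingCat.of k) ⟶ X) (hx₀ : x₀ ≫ hX = 𝟙 _)
    (y₀ : Spec (CommRingCat.of k) ⟶ Y) (hy₀ : y₀ ≫ hY = 𝟙 _)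
    (r₁ : X ⟶ pullback hX hY) (hr₁f : r₁ ≫ pullback.fst hX hY = 𝟙 X)
    (hr₁s : r₁ ≫ pullback.snd hX hY = hX ≫ y₀)
    (r₂ : Y ⟶ pullback hX hY) (hr₂f : r₂ ≫ pullback.fst hX hY = hY ≫ x₀)
    (hr₂s : r₂ ≫ pullback.snd hX hY = 𝟙 Y)
    (F : Γ(pullback hX hY, ⊤)) (hF : IsUnit F) (h1 : r₁.appTop F = 1) (h2 : r₂.appTop F = 1) :
    F = 1 := by
  have R := thmR (sK K hX) (sK K hY) ((rho K hX hY).appTop F) (hF.map _)
  have hval : ∀ (wx : Spec (CommRingCat.of K) ⟶ X) (hwx : wx ≫ hX = gK k K)
      (wy : Spec (CommRingCat.of K) ⟶ Y) (hwy : wy ≫ hY = gK k K),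
      evHom (pr (sK K hX) (sK K hY) (liftPt K hX wx hwx) (liftPt K hY wy hwy))
        ((rho K hX hY).appTop F) = evHom (pullback.lift wx wy (hwx.trans hwy.symm)) F := by
    intro wx hwx wy hwy
    rw [← evHom_comp, pr_rho]
  have hw0x : (gK k K ≫ x₀) ≫ hX = gK k K := by rw [Category.assoc, hx₀, Category.comp_id]
  have hw0y : (gK k K ≫ y₀) ≫ hY = gK k K := by rw [Category.assoc, hy₀, Category.comp_id]
  have hv1 : ∀ (wx : Spec (CommRingCat.of K) ⟶ X) (hwx : wx ≫ hX = gK k K),
      evHom (pullback.lift wx (gK k K ≫ y₀) (hwx.trans hw0y.symm)) F = 1 := by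
    intro wx hwx
    have e : pullback.lift wx (gK k K ≫ y₀) (hwx.trans hw0y.symm) = wx ≫ r₁ := by
      apply pullback.hom_ext
      · rw [pullback.lift_fst, Category.assoc, hr₁f, Category.comp_id]
      · rw [pullback.lift_snd, Category.assoc, hr₁s, ← Category.assoc, hwx]
    rw [e, evHom_comp, h1, map_one]
  have hv2 : ∀ (wy : Spec (CommRingCat.of K) ⟶ Y) (hwy : wy ≫ hY = gK k K),
      evHom (pullback.lift (gK k K ≫ x₀) wy (hw0x.trans hwy.symm)) F = 1 := by
    intro wy hwy
    have e : pullback.lift (gK k K ≫ x₀) wy (hw0x.trans hwy.symm) = wy ≫ r₂ := by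
      apply pullback.hom_ext
      · rw [pullback.lift_fst, Category.assoc, hr₂f, ← Category.assoc, hwy]
      · rw [pullback.lift_snd, Category.assoc, hr₂s, Category.comp_id]
    rw [e, evHom_comp, h2, map_one]
  have hall : ∀ z : Pt K (pullback.fst hX hY ≫ hX), evHom z.1 (F - 1) = 0 := by
    intro z
    have hwx : (z.1 ≫ pullback.fst hX hY) ≫ hX = gK k K := by
      rw [Category.assoc]
      exact z.2
    have hwy : (z.1 ≫ pullback.snd hX hY) ≫ hY = gK k K := by
      rw [Category.assoc, ← pullback.condition]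
      exact z.2
    have hz : pullback.lift (z.1 ≫ pullback.fst hX hY) (z.1 ≫ pullback.snd hX hY)
        (hwx.trans hwy.symm) = z.1 := by
      apply pullback.hom_ext
      · rw [pullback.lift_fst]
      · rw [pullback.lift_snd]
    have hR := R (liftPt K hX _ hwx) (liftPt K hX _ hw0x) (liftPt K hY _ hwy)
      (liftPt K hY _ hw0y)
    rw [hval, hval, hval, hval, hz, hv1 _ hwx, hv1 _ hw0x, hv2 _ hwy, mul_one, mul_one] at hR
    rw [map_sub, map_one, hR, sub_self]
  have h0 : F - 1 = 0 := eq_zero_of_evHom (K := K) (pullback.fst hX hY ≫ hX) (F - 1) hall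
  exact sub_eq_zero.mp h0

end S

section Conn

theorem connected_self (k : Type u) [Field k] {X : Scheme.{u}}
    (hX : X ⟶ Spec (CommRingCat.of k)) [ConnectedSpace X] :
    ConnectedSpace ↑(pullback hX (gK k k)) := by
  haveI : IsIso (gK k k) := by
    rw [gK_self]
    infer_instance
  haveI : IsIso (pullback.fst hX (gK k k)) := pullback_fst_iso_of_right_iso hX (gK k k)
  exact (Scheme.Hom.homeomorph (pullback.fst hX (gK k k))).symm.surjective.connectedSpace
    (Scheme.Hom.homeomorph (pullback.fst hX (gK k k))).symm.continuous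

theorem connected_of_geom {k : Type u} [Field k] (K : Type u) [Field K] [Algebra k K]
    {X : Scheme.{u}} (hX : X ⟶ Spec (CommRingCat.of k)) [GeometricallyConnected hX] :
    ConnectedSpace ↑(pullback hX (gK k K)) :=
  pullback_of_geometrically GeometricallyConnected.geometrically_connectedSpace K (gK k K)

end Conn

section OverForm

variable (k : Type u) [Field k] (K : Type u) [Field K] [IsAlgClosed K] [Algebra k K]

/-- **Rosenlicht's unit lemma.** -/
theorem unit_eq_one (X Y : Over (Spec (CommRingCat.of k))) [LocallyOfFiniteType X.hom]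
    [LocallyOfFiniteType Y.hom] [ConnectedSpace ↑(pullback X.hom (gK k K))]
    [ConnectedSpace ↑(pullback Y.hom (gK k K))] [IsReduced (X ⊗ Y).left]
    (x₀ : 𝟙_ (Over (Spec (CommRingCat.of k))) ⟶ X) (y₀ : 𝟙_ (Over (Spec (CommRingCat.of k))) ⟶ Y)
    (F : Γ((X ⊗ Y).left, ⊤)) (hF : IsUnit F)
    (h1 : (lift (𝟙 X) (toUnit X ≫ y₀)).left.appTop F = 1)
    (h2 : (lift (toUnit Y ≫ x₀) (𝟙 Y)).left.appTop F = 1) : F = 1 := by
  haveI : IsReduced (pullback X.hom Y.hom) := ‹IsReduced (X ⊗ Y).left›
  refine unit_eq_one_aux K X.hom Y.hom x₀.left ?_ y₀.left ?_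
    (lift (𝟙 X) (toUnit X ≫ y₀)).left ?_ ?_ (lift (toUnit Y ≫ x₀) (𝟙 Y)).left ?_ ?_ F hF h1 h2
  · exact Over.w x₀
  · exact Over.w y₀
  · rw [← Over.fst_left, ← Over.comp_left, lift_fst, Over.id_left]
  · rw [← Over.snd_left, ← Over.comp_left, lift_snd, Over.comp_left, Over.toUnit_left]
  · rw [← Over.fst_left, ← Over.comp_left, lift_fst, Over.comp_left, Over.toUnit_left]
  · rw [← Over.snd_left, ← Over.comp_left, lift_snd, Over.id_left]

/-- Two units on `X ×_k Y` with the same restrictions to the two axes are equal. -/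
theorem unit_eq_unit (X Y : Over (Spec (CommRingCat.of k))) [LocallyOfFiniteType X.hom]
    [LocallyOfFiniteType Y.hom] [ConnectedSpace ↑(pullback X.hom (gK k K))]
    [ConnectedSpace ↑(pullback Y.hom (gK k K))] [IsReduced (X ⊗ Y).left]
    (x₀ : 𝟙_ (Over (Spec (CommRingCat.of k))) ⟶ X) (y₀ : 𝟙_ (Over (Spec (CommRingCat.of k))) ⟶ Y)
    (F₁ F₂ : Γ((X ⊗ Y).left, ⊤)) (hF₁ : IsUnit F₁) (hF₂ : IsUnit F₂)
    (h1 : (lift (𝟙 X) (toUnit X ≫ y₀)).left.appTop F₁ =
      (lift (𝟙 X) (toUnit X ≫ y₀)).left.appTop F₂)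
    (h2 : (lift (toUnit Y ≫ x₀) (𝟙 Y)).left.appTop F₁ =
      (lift (toUnit Y ≫ x₀) (𝟙 Y)).left.appTop F₂) : F₁ = F₂ := by
  have key := unit_eq_one k K X Y x₀ y₀ (F₁ * ↑(hF₂.unit⁻¹)) (hF₁.mul (Units.isUnit _))
    (by rw [map_mul, h1, ← map_mul, IsUnit.mul_val_inv, map_one])
    (by rw [map_mul, h2, ← map_mul, IsUnit.mul_val_inv, map_one])
  calc F₁ = (F₁ * ↑(hF₂.unit⁻¹)) * F₂ := by rw [mul_assoc, IsUnit.val_inv_mul, mul_one]
    _ = F₂ := by rw [key, one_mul]

/-- Rational points exist on nonempty schemes locally of finite type over an algebraically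
closed field. -/
theorem exists_rat_pt [IsAlgClosed k] (X : Over (Spec (CommRingCat.of k)))
    [LocallyOfFiniteType X.hom] [Nonempty X.left] :
    Nonempty (𝟙_ (Over (Spec (CommRingCat.of k))) ⟶ X) := by
  obtain ⟨z, -⟩ := exists_pt_mem (K := k) X.hom ⊤ ⟨Classical.arbitrary _, trivial⟩
  exact ⟨Over.homMk z.1 (by rw [z.2, gK_self]; rfl)⟩

omit [IsAlgClosed K] [Algebra k K] in
theorem isReduced_tensor_of_geomReduced (X Y : Over (Spec (CommRingCat.of k)))
    [LocallyOfFiniteType Y.hom] [GeometricallyReduced X.hom] [GeometricallyReduced Y.hom] :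
    IsReduced (X ⊗ Y).left := by
  haveI : IsReduced Y.left :=
    self_of_isIntegral_of_geometrically (f := Y.hom)
      GeometricallyReduced.geometrically_isReduced
  haveI : IsLocallyNoetherian Y.left := LocallyOfFiniteType.isLocallyNoetherian Y.hom
  show IsReduced (pullback X.hom Y.hom)
  infer_instance

end OverForm

end

end Groth.Agent.Helper6.RosUnit
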