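import Mathlib
import Groth.Prelude.Def_AlgGrp
import Groth.Agent.Lib.Helper6.RosUnit.RU4
import Groth.Agent.Lib.Helper2.Sch.Reduced

/-!
# Rosenlicht's unit lemma for connected algebraic groups

Over an algebraically closed field `k`, for a smooth connected group scheme `G`:
* `character`: a unit of `Γ(G)` with value `1` at the unit section is a character;
* `units_prod`: units of `G × X` (`X` integral, locally of finite type) are `χ(g) · u(x)`;
* `semi_invariant`: units of `X` are semi-invariant under an action of `G`.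
-/

set_option backward.isDefEq.respectTransparency.types false
set_option autoImplicit false
set_option linter.unusedSectionVars false
set_option linter.unusedVariables false
set_option linter.style.haveILetI false
set_option linter.unusedSimpArgs false
set_option maxHeartbeats 800000
set_option synthInstance.maxHeartbeats 400000

open CategoryTheory CategoryTheory.Limits AlgebraicGeometry MonoidalCategory
  CartesianMonoidalCategory MonObj

namespace Groth.Agent.Helper6.RosUnit

universe u

noncomputable section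

section Gen

variable {S : Scheme.{u}}

theorem appTop_comp_apply {X Y Z : Over S} (f : X ⟶ Y) (g : Y ⟶ Z) (s : Γ(Z.left, ⊤)) :
    f.left.appTop (g.left.appTop s) = (f ≫ g).left.appTop s := by
  rw [Over.comp_left, Scheme.Hom.comp_appTop]
  rfl

theorem id_appTop_apply {X : Over S} (s : Γ(X.left, ⊤)) :
    (Over.Hom.left (𝟙 X)).appTop s = s := by
  rw [Over.id_left, Scheme.Hom.id_appTop]
  rfl

theorem lift_toUnit_eq {G X : Over S} [MonObj G] :
    lift (toUnit X ≫ η[G]) (𝟙 X) = (λ_ X).inv ≫ η[G] ▷ X := by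
  apply CartesianMonoidalCategory.hom_ext
  · rw [lift_fst, Category.assoc, whiskerRight_fst, ← Category.assoc, leftUnitor_inv_fst]
  · rw [lift_snd, Category.assoc, whiskerRight_snd, leftUnitor_inv_snd]

end Gen

section Grp

variable (k : Type u) [Field k] [IsAlgClosed k] (G : Over (Spec (CommRingCat.of k))) [GrpObj G]
  [Smooth G.hom] [ConnectedSpace ↥G.left]

omit [IsAlgClosed k] [GrpObj G] [ConnectedSpace ↥G.left] in
theorem isReduced_smooth_tensor (X : Over (Spec (CommRingCat.of k))) [IsReduced X.left] :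
    IsReduced (G ⊗ X).left := by
  haveI : Smooth (snd G X).left := by
    rw [Over.snd_left]
    infer_instance
  exact Groth.Agent.Helper2.SchLib.isReduced_of_smooth (snd G X).left

omit [IsAlgClosed k] [GrpObj G] [ConnectedSpace ↥G.left] in
theorem isReduced_smooth : IsReduced G.left :=
  Groth.Agent.Helper2.SchLib.isReduced_of_smooth G.hom

/-- A unit on a smooth connected group with value `1` at the origin is a character. -/
theorem character (f : Γ(G.left, ⊤)) (hf : IsUnit f) (he : η[G].left.appTop f = 1) :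
    μ[G].left.appTop f = (fst G G).left.appTop f * (snd G G).left.appTop f := by
  haveI := connected_self k G.hom
  haveI : IsReduced G.left := isReduced_smooth k G
  haveI : IsReduced (G ⊗ G).left := isReduced_smooth_tensor k G G
  refine unit_eq_unit k k G G η[G] η[G] _ _ (hf.map _) ((hf.map _).mul (hf.map _)) ?_ ?_
  · rw [map_mul, appTop_comp_apply, appTop_comp_apply, appTop_comp_apply,
      MonObj.lift_comp_one_right, lift_fst, lift_snd, ← appTop_comp_apply (toUnit G) η[G], he,
      map_one, _root_.mul_one]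
  · rw [map_mul, appTop_comp_apply, appTop_comp_apply, appTop_comp_apply,
      MonObj.lift_comp_one_left, lift_fst, lift_snd, ← appTop_comp_apply (toUnit G) η[G], he,
      map_one, _root_.one_mul]

/-- Units on `G × X` are products of a character of `G` and a unit of `X`. -/
theorem units_prod (X : Over (Spec (CommRingCat.of k))) [IsIntegral X.left]
    [LocallyOfFiniteType X.hom] (x₀ : 𝟙_ (Over (Spec (CommRingCat.of k))) ⟶ X)
    (F : Γ((G ⊗ X).left, ⊤)) (hF : IsUnit F) :
    ∃ (χ : Γ(G.left, ⊤)) (u : Γ(X.left, ⊤)), IsUnit χ ∧ η[G].left.appTop χ = 1 ∧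
      μ[G].left.appTop χ = (fst G G).left.appTop χ * (snd G G).left.appTop χ ∧ IsUnit u ∧
      u = (lift (toUnit X ≫ η[G]) (𝟙 X)).left.appTop F ∧
      F = (fst G X).left.appTop χ * (snd G X).left.appTop u := by
  haveI := connected_self k G.hom
  haveI := connected_self k X.hom
  haveI : IsReduced (G ⊗ X).left := isReduced_smooth_tensor k G X
  obtain ⟨χ₀, hχ₀⟩ : ∃ χ₀ : Γ(G.left, ⊤),
      χ₀ = (lift (𝟙 G) (toUnit G ≫ x₀)).left.appTop F := ⟨_, rfl⟩
  obtain ⟨u, hu⟩ : ∃ u : Γ(X.left, ⊤),
      u = (lift (toUnit X ≫ η[G]) (𝟙 X)).left.appTop F := ⟨_, rfl⟩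
  have hχ₀u : IsUnit χ₀ := hχ₀ ▸ hF.map _
  have huu : IsUnit u := hu ▸ hF.map _
  obtain ⟨c, hc⟩ : ∃ c : Γ((𝟙_ (Over (Spec (CommRingCat.of k)))).left, ⊤),
      c = η[G].left.appTop χ₀ := ⟨_, rfl⟩
  have hcu : IsUnit c := hc ▸ hχ₀u.map _
  have hxu : x₀.left.appTop u = c := by
    have e : x₀ ≫ lift (toUnit X ≫ η[G]) (𝟙 X) = η[G] ≫ lift (𝟙 G) (toUnit G ≫ x₀) := by
      apply CartesianMonoidalCategory.hom_ext
      · rw [Category.assoc, lift_fst, Category.assoc, lift_fst, Category.comp_id,
          ← Category.assoc, toUnit_unique (x₀ ≫ toUnit X) (𝟙 _), Category.id_comp]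
      · rw [Category.assoc, lift_snd, Category.assoc, lift_snd, Category.comp_id,
          ← Category.assoc, toUnit_unique (η[G] ≫ toUnit G) (𝟙 _), Category.id_comp]
    rw [hu, hc, hχ₀, appTop_comp_apply, appTop_comp_apply, e]
  obtain ⟨χ, hχ⟩ : ∃ χ : Γ(G.left, ⊤),
      χ = χ₀ * (toUnit G).left.appTop (↑(hcu.unit⁻¹) : Γ((𝟙_ (Over (Spec (CommRingCat.of k)))).left, ⊤)) := ⟨_, rfl⟩
  have hχu : IsUnit χ := hχ ▸ hχ₀u.mul ((Units.isUnit _).map _)
  have hχe : η[G].left.appTop χ = 1 := by
    rw [hχ, map_mul, ← hc, appTop_comp_apply, toUnit_unique (η[G] ≫ toUnit G) (𝟙 _),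
      id_appTop_apply, IsUnit.mul_val_inv]
  have hχc : χ * (toUnit G).left.appTop c = χ₀ := by
    rw [hχ, _root_.mul_assoc, ← map_mul, IsUnit.val_inv_mul, map_one, _root_.mul_one]
  refine ⟨χ, u, hχu, hχe, character k G χ hχu hχe, huu, hu, ?_⟩
  refine unit_eq_unit k k G X η[G] x₀ _ _ hF ((hχu.map _).mul (huu.map _)) ?_ ?_
  · rw [map_mul, appTop_comp_apply, appTop_comp_apply, lift_fst, lift_snd, id_appTop_apply,
      ← appTop_comp_apply (toUnit G) x₀, hxu, hχc, hχ₀]
  · rw [map_mul, appTop_comp_apply, appTop_comp_apply, lift_fst, lift_snd, id_appTop_apply,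
      ← appTop_comp_apply (toUnit X) η[G], hχe, map_one, _root_.one_mul, hu]

/-- Units on `X` are semi-invariant under a connected group. -/
theorem semi_invariant (X : Over (Spec (CommRingCat.of k))) [IsIntegral X.left]
    [LocallyOfFiniteType X.hom] (a : AlgGrp.Action G X) (f : Γ(X.left, ⊤)) (hf : IsUnit f) :
    ∃! χ : Γ(G.left, ⊤), IsUnit χ ∧ η[G].left.appTop χ = 1 ∧
      μ[G].left.appTop χ = (fst G G).left.appTop χ * (snd G G).left.appTop χ ∧
      a.act.left.appTop f = (fst G X).left.appTop χ * (snd G X).left.appTop f := by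
  obtain ⟨x₀⟩ := exists_rat_pt k X
  obtain ⟨χ, u, hχu, hχe, hχm, huu, hu, hF⟩ :=
    units_prod k G X x₀ (a.act.left.appTop f) (hf.map _)
  have huf : u = f := by
    rw [hu, appTop_comp_apply, lift_toUnit_eq, Category.assoc, a.one_act, Iso.inv_hom_id,
      id_appTop_apply]
  rw [huf] at hF
  refine ⟨χ, ⟨hχu, hχe, hχm, hF⟩, ?_⟩
  rintro χ' ⟨-, -, -, h4⟩
  have h5 := congrArg (fun s => (lift (𝟙 G) (toUnit G ≫ x₀)).left.appTop s) (h4.symm.trans hF)
  simp only [map_mul, appTop_comp_apply, lift_fst, lift_snd, id_appTop_apply] at h5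
  exact ((hf.map ((toUnit G ≫ x₀).left.appTop).hom).mul_left_injective h5)

end Grp

end

end Groth.Agent.Helper6.RosUnit
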