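import Mathlib
import Groth.Agent.Lib.Helper6.RosUnit.RU5
import Groth.Agent.Lib.Helper4.RedAlgClosed1

/-!
# Units on a product of varieties over an algebraically closed field

`units_prod_var`: for integral schemes `X`, `Y` locally of finite type over an algebraically
closed field, every unit on `X × Y` is `p₁^*g · p₂^*h`.
-/

set_option backward.isDefEq.respectTransparency.types false
set_option autoImplicit false
set_option linter.unusedSectionVars false
set_option linter.unusedVariables false
set_option linter.style.haveILetI false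
set_option linter.unusedSimpArgs false
set_option maxHeartbeats 800000
set_option synthInstance.maxHeartbeats 400000

open CategoryTheory CategoryTheory.Limits AlgebraicGeometry MonoidalCategory
  CartesianMonoidalCategory

namespace Groth.Agent.Helper6.RosUnit

universe u

noncomputable section

section Red

variable {k : Type u} [Field k] [IsAlgClosed k]

theorem isReduced_pullback_affine {Z W : Scheme.{u}} [IsAffine Z] [IsAffine W] [IsReduced Z]
    [IsReduced W] (g : Z ⟶ Spec (CommRingCat.of k)) (g' : W ⟶ Spec (CommRingCat.of k))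
    [LocallyOfFiniteType g] : IsReduced (pullback g g') := by
  obtain ⟨φ, hφ⟩ := Spec.map_surjective (Z.isoSpec.inv ≫ g)
  obtain ⟨ψ, hψ⟩ := Spec.map_surjective (W.isoSpec.inv ≫ g')
  have hlft : LocallyOfFiniteType (Spec.map φ) := by
    rw [hφ]
    infer_instance
  have hft : φ.hom.FiniteType :=
    (HasRingHomProperty.Spec_iff (P := @LocallyOfFiniteType)).mp hlft
  haveI : _root_.IsReduced Γ(Z, ⊤) := inferInstance
  haveI : _root_.IsReduced Γ(W, ⊤) := inferInstance
  have key := Groth.Agent.Lib.Helper4.RedAlgClosed1.isReduced_pullback_SpecMap' _ _ φ ψ hft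
  rw [hφ, hψ] at key
  exact isReduced_of_isOpenImmersion
    (pullback.map g g' (Z.isoSpec.inv ≫ g) (W.isoSpec.inv ≫ g') Z.isoSpec.hom W.isoSpec.hom
      (𝟙 _) (by simp) (by simp))

/-- A product of reduced schemes over an algebraically closed field, one of them locally of
finite type, is reduced. -/
theorem isReduced_pullback_of_isAlgClosed {X Y : Scheme.{u}} (hX : X ⟶ Spec (CommRingCat.of k))
    (hY : Y ⟶ Spec (CommRingCat.of k)) [LocallyOfFiniteType hX] [IsReduced X] [IsReduced Y] :
    IsReduced (pullback hX hY) := by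
  haveI : ∀ i : (Scheme.Pullback.openCoverOfLeftRight X.affineCover Y.affineCover hX hY).I₀,
      IsReduced ((Scheme.Pullback.openCoverOfLeftRight X.affineCover Y.affineCover hX hY).X i) := by
    rintro ⟨i, j⟩
    exact isReduced_pullback_affine (X.affineCover.f i ≫ hX) (Y.affineCover.f j ≫ hY)
  exact IsReduced.of_openCover _
    (Scheme.Pullback.openCoverOfLeftRight X.affineCover Y.affineCover hX hY)

end Red

section Prod

variable (k : Type u) [Field k] [IsAlgClosed k]

/-- Units on a product of varieties over an algebraically closed field decompose. -/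
theorem units_prod_var (X Y : Over (Spec (CommRingCat.of k))) [IsIntegral X.left]
    [LocallyOfFiniteType X.hom] [IsIntegral Y.left] [LocallyOfFiniteType Y.hom]
    (f : Γ((X ⊗ Y).left, ⊤)) (hf : IsUnit f) :
    ∃ (g : Γ(X.left, ⊤)) (h : Γ(Y.left, ⊤)), IsUnit g ∧ IsUnit h ∧
      f = (fst X Y).left.appTop g * (snd X Y).left.appTop h := by
  obtain ⟨x₀⟩ := exists_rat_pt k X
  obtain ⟨y₀⟩ := exists_rat_pt k Y
  haveI := connected_self k X.hom
  haveI := connected_self k Y.hom
  haveI : IsReduced (X ⊗ Y).left := isReduced_pullback_of_isAlgClosed X.hom Y.hom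
  obtain ⟨g, hg⟩ : ∃ g : Γ(X.left, ⊤),
      g = (lift (𝟙 X) (toUnit X ≫ y₀)).left.appTop f := ⟨_, rfl⟩
  obtain ⟨h₀, hh₀⟩ : ∃ h₀ : Γ(Y.left, ⊤),
      h₀ = (lift (toUnit Y ≫ x₀) (𝟙 Y)).left.appTop f := ⟨_, rfl⟩
  have hgu : IsUnit g := hg ▸ hf.map _
  have hh₀u : IsUnit h₀ := hh₀ ▸ hf.map _
  obtain ⟨c, hc⟩ : ∃ c : Γ((𝟙_ (Over (Spec (CommRingCat.of k)))).left, ⊤),
      c = x₀.left.appTop g := ⟨_, rfl⟩
  have hcu : IsUnit c := hc ▸ hgu.map _
  have hyc : y₀.left.appTop h₀ = c := by
    have e : y₀ ≫ lift (toUnit Y ≫ x₀) (𝟙 Y) = x₀ ≫ lift (𝟙 X) (toUnit X ≫ y₀) := by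
      apply CartesianMonoidalCategory.hom_ext
      · rw [Category.assoc, lift_fst, Category.assoc, lift_fst, Category.comp_id,
          ← Category.assoc, toUnit_unique (y₀ ≫ toUnit Y) (𝟙 _), Category.id_comp]
      · rw [Category.assoc, lift_snd, Category.assoc, lift_snd, Category.comp_id,
          ← Category.assoc, toUnit_unique (x₀ ≫ toUnit X) (𝟙 _), Category.id_comp]
    rw [hh₀, hc, hg, appTop_comp_apply, appTop_comp_apply, e]
  obtain ⟨h, hh⟩ : ∃ h : Γ(Y.left, ⊤),
      h = h₀ * (toUnit Y).left.appTop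
        (↑(hcu.unit⁻¹) : Γ((𝟙_ (Over (Spec (CommRingCat.of k)))).left, ⊤)) := ⟨_, rfl⟩
  have hhu : IsUnit h := hh ▸ hh₀u.mul ((Units.isUnit _).map _)
  have hy1 : y₀.left.appTop h = 1 := by
    rw [hh, map_mul, hyc, appTop_comp_apply, toUnit_unique (y₀ ≫ toUnit Y) (𝟙 _),
      id_appTop_apply, IsUnit.mul_val_inv]
  have hch : (toUnit Y).left.appTop c * h = h₀ := by
    rw [hh, mul_comm h₀, ← mul_assoc, ← map_mul, IsUnit.mul_val_inv, map_one, one_mul]
  refine ⟨g, h, hgu, hhu, ?_⟩
  refine unit_eq_unit k k X Y x₀ y₀ _ _ hf ((hgu.map _).mul (hhu.map _)) ?_ ?_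
  · rw [map_mul, appTop_comp_apply, appTop_comp_apply, lift_fst, lift_snd, id_appTop_apply,
      ← appTop_comp_apply (toUnit X) y₀, hy1, map_one, mul_one, hg]
  · rw [map_mul, appTop_comp_apply, appTop_comp_apply, lift_fst, lift_snd, id_appTop_apply,
      ← appTop_comp_apply (toUnit Y) x₀, ← hc, hch, hh₀]

end Prod

end

end Groth.Agent.Helper6.RosUnit
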